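import Groth.Agent.LogPoly.Kosz
import Groth.Prelude.Def_LogDiff
import Groth.Prelude.Def_DeRham

/-!
Coordinates on logarithmic forms of affine space.
-/

set_option autoImplicit false

universe u

open MvPolynomial Finset Module

noncomputable section

namespace Groth.Agent.LogPoly

/-- Inserting an element into an increasing enumeration. -/
theorem insertNth_orderEmb {a n : ℕ} {s : Finset (Fin n)} (hs : s.card = a) {ν : Fin n} (hν : ν ∉ s) :
    ∃ k : Fin (a + 1), (k : ℕ) = pos ν s ∧
      k.insertNth ν (s.orderEmbOfFin hs) =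
        (insert ν s).orderEmbOfFin (by rw [Finset.card_insert_of_notMem hν, hs] : (insert ν s).card = a + 1) := by
  classical
  let S : Finset (Fin a) := Finset.univ.filter fun j => s.orderEmbOfFin hs j < ν
  have hS : S.card = pos ν s := by
    rw [pos]
    refine Finset.card_bij (fun j _ => s.orderEmbOfFin hs j) (fun j hj => ?_) (fun i _ j _ h => ?_)
      (fun x hx => ?_)
    · exact Finset.mem_filter.2 ⟨s.orderEmbOfFin_mem hs j, (Finset.mem_filter.1 hj).2⟩
    · exact (s.orderEmbOfFin hs).injective h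
    · obtain ⟨hxs, hxν⟩ := Finset.mem_filter.1 hx
      have : x ∈ Set.range (s.orderEmbOfFin hs) := by rw [Finset.range_orderEmbOfFin]; exact hxs
      obtain ⟨j, rfl⟩ := this
      exact ⟨j, Finset.mem_filter.2 ⟨Finset.mem_univ _, hxν⟩, rfl⟩
  have hle : S.card ≤ a := le_trans (Finset.card_le_univ S) (le_of_eq (Fintype.card_fin a))
  refine ⟨⟨S.card, by omega⟩, hS, Finset.orderEmbOfFin_unique _ (fun i => ?_) ?_⟩
  · refine Fin.succAboveCases (⟨S.card, by omega⟩ : Fin (a + 1)) ?_ (fun j => ?_) i
    · simp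
    · simp [s.orderEmbOfFin_mem hs j]
  · have key : ∀ j : Fin a, (j : ℕ) < S.card ↔ s.orderEmbOfFin hs j < ν := fun j => by
      constructor
      · intro hj
        by_contra hcon
        have hsub : S ⊆ Finset.Iio j := fun i hi => Finset.mem_Iio.2 (by
          by_contra hij
          exact hcon (lt_of_le_of_lt ((s.orderEmbOfFin hs).monotone (not_lt.1 hij))
            (Finset.mem_filter.1 hi).2))
        have := Finset.card_le_card hsub
        rw [Fin.card_Iio] at this
        omega
      · intro hj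
        have hsub : Finset.Iic j ⊆ S := fun i hi => Finset.mem_filter.2 ⟨Finset.mem_univ _,
          lt_of_le_of_lt ((s.orderEmbOfFin hs).monotone (Finset.mem_Iic.1 hi)) hj⟩
        have := Finset.card_le_card hsub
        rw [Fin.card_Iic] at this
        omega
    rw [Fin.strictMono_insertNth_iff]
    refine ⟨(s.orderEmbOfFin hs).strictMono, fun j hj => (key j).1 hj, fun j hj => ?_⟩
    refine lt_of_le_of_ne (not_lt.1 fun h => not_lt.2 hj ((key j).2 h)) fun h => hν ?_
    exact h ▸ s.orderEmbOfFin_mem hs j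

variable {n r : ℕ} {R : Type u} [CommRing R]
  {L : Type u} [AddCommGroup L] [Module (MvPolynomial (Fin n) R) L]

/-- Wedge of basis vectors with one more in front. -/
theorem ιMulti_cons {a : ℕ} (v : Fin n → L) {s : Finset (Fin n)} (hs : s.card = a) (ν : Fin n) :
    exteriorPower.ιMulti (MvPolynomial (Fin n) R) (a + 1) (Fin.cons (v ν) (v ∘ s.orderEmbOfFin hs)) =
      if h : ν ∈ s then 0 else sg ν s • exteriorPower.ιMulti (MvPolynomial (Fin n) R) (a + 1)
        (v ∘ (insert ν s).orderEmbOfFin (by rw [Finset.card_insert_of_notMem h, hs] : (insert ν s).card = a + 1)) := by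
  classical
  split_ifs with h
  · obtain ⟨j, hj⟩ : ν ∈ Set.range (s.orderEmbOfFin hs) := by rw [Finset.range_orderEmbOfFin]; exact h
    exact AlternatingMap.map_eq_zero_of_eq _ _ (i := 0) (j := j.succ) (by simp [hj]) (Fin.succ_ne_zero j).symm
  · obtain ⟨k, hk, he⟩ := insertNth_orderEmb hs h
    have h1 := (exteriorPower.ιMulti (MvPolynomial (Fin n) R) (a + 1) (M := L)).map_insertNth k (v ν)
      (v ∘ s.orderEmbOfFin hs)
    have hc : v ∘ k.insertNth ν (s.orderEmbOfFin hs) = k.insertNth (v ν) (v ∘ s.orderEmbOfFin hs) := by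
      funext i
      refine Fin.succAboveCases k ?_ (fun j => ?_) i <;> simp
    rw [← he, hc, h1]
    rw [show (Matrix.vecCons (v ν) (v ∘ s.orderEmbOfFin hs)) = Fin.cons (v ν) (v ∘ s.orderEmbOfFin hs) from rfl,
      sg, ← hk, smul_smul, ← pow_add, Even.neg_one_pow ⟨_, rfl⟩, one_smul]

/-- The exponent of the boundary-free variables of `s`. -/
def ind (r : ℕ) (s : Finset (Fin n)) : Fin n →₀ ℕ :=
  Finsupp.equivFunOnFinite.symm fun ν => if ν ∈ s ∧ r ≤ (ν : ℕ) then 1 else 0

theorem ind_apply (r : ℕ) (s : Finset (Fin n)) (ν : Fin n) :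
    ind r s ν = if ν ∈ s ∧ r ≤ (ν : ℕ) then 1 else 0 := rfl

/-- The multiplier of `s`. -/
def pi' (r : ℕ) (s : Finset (Fin n)) : MvPolynomial (Fin n) R := monomial (ind r s) 1

/-- `t_ν` for the boundary variables and `1` for the others. -/
def tau (r : ℕ) (ν : Fin n) : MvPolynomial (Fin n) R := if (ν : ℕ) < r then X ν else 1

theorem pi'_insert {s : Finset (Fin n)} {ν : Fin n} (h : ν ∉ s) :
    (tau r ν : MvPolynomial (Fin n) R) * pi' r (insert ν s) = X ν * pi' r s := by
  classical
  have e : ind r (insert ν s) = ind r s + if (ν : ℕ) < r then 0 else Finsupp.single ν 1 := by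
    ext μ
    rw [Finsupp.add_apply, ind_apply, ind_apply]
    by_cases hμ : μ = ν
    · subst hμ
      by_cases hr : (μ : ℕ) < r <;> simp [h, hr, not_le.2, le_of_not_gt]
    · by_cases hr : (ν : ℕ) < r <;> simp [hμ, hr, Finsupp.single_eq_of_ne]
  rw [pi', e, tau, pi']
  split_ifs with hr
  · rw [add_zero]
  · rw [one_mul, X, monomial_mul, one_mul, add_comm]

/-- Coordinates with respect to a basis, made logarithmic in all variables. -/
def C (b : Basis (Fin n) (MvPolynomial (Fin n) R) L) (r a : ℕ) :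
    ↥(⋀[MvPolynomial (Fin n) R]^a L) →ₗ[MvPolynomial (Fin n) R] Fun n R where
  toFun ω s := if h : s.card = a then (b.exteriorPower a).repr ω ⟨s, h⟩ * pi' r s else 0
  map_add' x y := by
    funext s
    simp only [Pi.add_apply]
    split_ifs <;> simp [add_mul]
  map_smul' c x := by
    funext s
    simp only [Pi.smul_apply, RingHom.id_apply, smul_eq_mul]
    split_ifs <;> simp [mul_assoc]

variable (b : Basis (Fin n) (MvPolynomial (Fin n) R) L)

theorem C_basis {a : ℕ} {s : Finset (Fin n)} (hs : s.card = a) :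
    C b r a (exteriorPower.ιMulti (MvPolynomial (Fin n) R) a (b ∘ s.orderEmbOfFin hs)) =
      Pi.single s (pi' r s) := by
  classical
  funext u
  have e : exteriorPower.ιMulti (MvPolynomial (Fin n) R) a (b ∘ s.orderEmbOfFin hs) =
      exteriorPower.ιMulti_family (MvPolynomial (Fin n) R) a b ⟨s, hs⟩ := rfl
  rw [e]
  show dite _ _ _ = _
  by_cases hus : u = s
  · subst hus
    rw [dif_pos hs, exteriorPower.basis_repr_self, one_mul, Pi.single_eq_same]
  · rw [Pi.single_eq_of_ne hus]
    split_ifs with hu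
    · rw [exteriorPower.basis_repr_ne (MvPolynomial (Fin n) R) a b (s := ⟨s, hs⟩) (t := ⟨u, hu⟩)
        (fun h => hus (congrArg Subtype.val h).symm), zero_mul]
    · rfl

theorem C_injective (a : ℕ) : Function.Injective (C b r a) := by
  intro x y h
  refine (b.exteriorPower a).repr.injective (Finsupp.ext fun s => ?_)
  obtain ⟨s, hs⟩ := s
  have hs' : s.card = a := hs
  have h1 := congrFun h s
  change dite _ _ _ = dite _ _ _ at h1
  rw [dif_pos hs', dif_pos hs'] at h1
  ext M
  have h2 := congrArg (coeff (M + ind r s)) h1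
  simpa [pi', coeff_mul_monomial] using h2

/-- Admissible functions. -/
def Adm (r a : ℕ) (f : Fun n R) : Prop :=
  ∀ s M, coeff M (f s) ≠ 0 → s.card = a ∧ ind r s ≤ M

theorem adm_C (a : ℕ) (ω : ↥(⋀[MvPolynomial (Fin n) R]^a L)) : Adm r a (C b r a ω) := by
  intro s M h
  change coeff M (dite _ _ _) ≠ 0 at h
  split_ifs at h with hs
  · refine ⟨hs, ?_⟩
    rw [pi', coeff_mul_monomial'] at h
    exact (ite_ne_right_iff.1 h).1
  · exact absurd (coeff_zero M) h

theorem exists_C_eq (a : ℕ) (f : Fun n R) (hf : Adm r a f) : ∃ ω, C b r a ω = f := by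
  classical
  refine ⟨(b.exteriorPower a).repr.symm
    (Finsupp.equivFunOnFinite.symm fun s => (f s.1).divMonomial (ind r s.1)), ?_⟩
  funext s
  show dite _ _ _ = _
  ext M
  by_cases hs : s.card = a
  · rw [dif_pos hs, LinearEquiv.apply_symm_apply]
    simp only [Finsupp.coe_equivFunOnFinite_symm, pi']
    rw [coeff_mul_monomial', mul_one, coeff_divMonomial]
    split_ifs with hM
    · rw [add_tsub_cancel_of_le hM]
    · by_contra hne
      exact hM (hf s M (Ne.symm hne)).2
  · rw [dif_neg hs, coeff_zero]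
    by_contra hne
    exact hs (hf s M (Ne.symm hne)).1

theorem adm_Z (p a : ℕ) {f : Fun n R} (hf : Adm r a f) : Adm r a (Z p f) := fun s M h => by
  simp only [Z, scaleHom, AddMonoidHom.mk'_apply, coeff_scale] at h
  exact hf s M (right_ne_zero_of_mul h)

theorem adm_H (q : Fin n → (Fin n →₀ ℕ) → R) {a : ℕ} {f : Fun n R} (hf : Adm r (a + 1) f) :
    Adm r a (H q f) := fun s M h => by
  classical
  simp only [H, coeff_sum] at h
  obtain ⟨μ, hμ, hne⟩ := Finset.exists_ne_zero_of_sum_ne_zero h
  have h1 : coeff M (f (insert μ s)) ≠ 0 := fun h0 => hne (by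
    rw [zsmul_eq_mul, show ((sg μ s : ℤ) : MvPolynomial (Fin n) R) = MvPolynomial.C ((sg μ s : ℤ) : R) from
      (map_intCast (MvPolynomial.C : R →+* MvPolynomial (Fin n) R) _).symm, coeff_C_mul]
    simp only [scaleHom, AddMonoidHom.mk'_apply, coeff_scale, h0, mul_zero])
  obtain ⟨hc, hle⟩ := hf _ M h1
  rw [Finset.mem_compl] at hμ
  rw [Finset.card_insert_of_notMem hμ] at hc
  refine ⟨by omega, fun ν => le_trans ?_ (hle ν)⟩
  rw [ind_apply, ind_apply]
  by_cases hν : ν ∈ s <;> simp [hν]

theorem H_eq_zero (q : Fin n → (Fin n →₀ ℕ) → R) {f : Fun n R} (hf : Adm r 0 f) : H q f = 0 := by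
  classical
  funext s
  refine Finset.sum_eq_zero fun μ _ => ?_
  have : f (insert μ s) = 0 := by
    ext M
    by_contra hne
    have := (hf _ M (by simpa using hne)).1
    rw [Finset.card_eq_zero] at this
    exact (Finset.insert_ne_empty _ _) this
  rw [this, map_zero, smul_zero]

end Groth.Agent.LogPoly
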