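import Mathlib

/-!
Coefficientwise Koszul operators on polynomial-valued functions of finite sets of indices.
-/

set_option autoImplicit false

universe u

open MvPolynomial Finset

noncomputable section

namespace Groth.Agent.LogPoly

/-- The number of elements of `s` below `ν`. -/
def pos {n : ℕ} (ν : Fin n) (s : Finset (Fin n)) : ℕ := (s.filter fun i => i < ν).card

/-- The sign of inserting `ν` into `s`. -/
def sg {n : ℕ} (ν : Fin n) (s : Finset (Fin n)) : ℤ := (-1) ^ pos ν s

variable {n : ℕ} {R : Type u} [CommRing R]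

theorem pos_insert {μ ν : Fin n} {s : Finset (Fin n)} (h : μ ∉ s) :
    pos ν (insert μ s) = pos ν s + if μ < ν then 1 else 0 := by
  unfold pos
  rw [Finset.filter_insert]
  split
  · rw [Finset.card_insert_of_notMem (fun hh => h (Finset.mem_filter.1 hh).1)]
  · rw [add_zero]

theorem pos_erase {μ ν : Fin n} {s : Finset (Fin n)} (h : μ ∈ s) :
    pos ν s = pos ν (s.erase μ) + if μ < ν then 1 else 0 := by
  conv_lhs => rw [← Finset.insert_erase h]
  exact pos_insert (Finset.notMem_erase μ s)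

theorem sg_mul_self (ν : Fin n) (s : Finset (Fin n)) : sg ν s * sg ν s = 1 := by
  rw [sg, ← pow_add, Even.neg_one_pow ⟨_, rfl⟩]

theorem sg_cross {μ ν : Fin n} {s : Finset (Fin n)} (hμ : μ ∉ s) (hν : ν ∈ s) :
    sg μ s * sg ν (insert μ s) = - (sg ν s * sg μ (s.erase ν)) := by
  have hne : μ ≠ ν := fun h => hμ (h ▸ hν)
  unfold sg
  rw [pos_insert hμ, pos_erase (ν := μ) hν, ← pow_add, ← pow_add]
  rcases lt_or_gt_of_ne hne with h | h
  · rw [if_pos h, if_neg (not_lt.2 h.le)]
    ring
  · rw [if_neg (not_lt.2 h.le), if_pos h]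
    ring

/-- Multiply the coefficient at `M` by `c M`. -/
def scale (c : (Fin n →₀ ℕ) → R) (f : MvPolynomial (Fin n) R) : MvPolynomial (Fin n) R :=
  ∑ M ∈ f.support, monomial M (c M * coeff M f)

theorem coeff_scale (c : (Fin n →₀ ℕ) → R) (f : MvPolynomial (Fin n) R) (M : Fin n →₀ ℕ) :
    coeff M (scale c f) = c M * coeff M f := by
  classical
  simp only [scale, coeff_sum, coeff_monomial, Finset.sum_ite_eq', mem_support_iff, ite_not]
  split_ifs with h
  · rw [h, mul_zero]
  · rfl

theorem scale_add (c : (Fin n →₀ ℕ) → R) (f g : MvPolynomial (Fin n) R) :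
    scale c (f + g) = scale c f + scale c g := by
  ext M; simp only [coeff_scale, coeff_add, mul_add]

/-- `scale` as an additive map. -/
def scaleHom (c : (Fin n →₀ ℕ) → R) : MvPolynomial (Fin n) R →+ MvPolynomial (Fin n) R :=
  AddMonoidHom.mk' (scale c) (scale_add c)

/-- The weight at `ν`. -/
def wt (ν : Fin n) (M : Fin n →₀ ℕ) : R := ((M ν : ℕ) : R)

theorem X_mul_pderiv (ν : Fin n) (f : MvPolynomial (Fin n) R) :
    X ν * pderiv ν f = scale (wt ν) f := by
  classical
  ext M
  rw [coeff_X_mul', coeff_scale, wt]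
  split_ifs with h
  · have h1 : 1 ≤ M ν := Nat.one_le_iff_ne_zero.2 (Finsupp.mem_support_iff.1 h)
    rw [coeff_pderiv, tsub_add_cancel_of_le (Finsupp.single_le_iff.2 h1), Finsupp.tsub_apply,
      Finsupp.single_eq_same, ← Nat.cast_add_one, Nat.sub_add_cancel h1, mul_comm]
  · rw [Finsupp.notMem_support_iff.1 h, Nat.cast_zero, zero_mul]

/-- Functions of finite sets with polynomial values. -/
abbrev Fun (n : ℕ) (R : Type u) [CommRing R] : Type u := Finset (Fin n) → MvPolynomial (Fin n) R

/-- The differential. -/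
def K : Fun n R →+ Fun n R :=
  AddMonoidHom.mk' (fun f s => ∑ ν ∈ s, sg ν s • scaleHom (wt ν) (f (s.erase ν))) fun f g => by
    funext s
    simp only [Pi.add_apply, map_add, smul_add, Finset.sum_add_distrib]

theorem K_apply (f : Fun n R) (s : Finset (Fin n)) :
    K f s = ∑ ν ∈ s, sg ν s • scaleHom (wt ν) (f (s.erase ν)) := rfl

/-- The homotopy. -/
def H (q : Fin n → (Fin n →₀ ℕ) → R) (f : Fun n R) : Fun n R :=
  fun s => ∑ μ ∈ sᶜ, sg μ s • scaleHom (q μ) (f (insert μ s))

theorem scaleHom_comp (c c' : (Fin n →₀ ℕ) → R) (f : MvPolynomial (Fin n) R) :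
    scaleHom c (scaleHom c' f) = scaleHom (fun M => c M * c' M) f := by
  ext M
  simp only [scaleHom, AddMonoidHom.mk'_apply, coeff_scale, mul_assoc]

theorem scaleHom_comm (c c' : (Fin n →₀ ℕ) → R) (f : MvPolynomial (Fin n) R) :
    scaleHom c (scaleHom c' f) = scaleHom c' (scaleHom c f) := by
  rw [scaleHom_comp, scaleHom_comp]
  congr 1
  congr 1
  funext M
  exact mul_comm _ _

/-- The homotopy identity. -/
theorem K_H_add_H_K (q : Fin n → (Fin n →₀ ℕ) → R) (f : Fun n R) (s : Finset (Fin n)) :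
    K (H q f) s + H q (K f) s = scaleHom (fun M => ∑ ν, q ν M * wt ν M) (f s) := by
  classical
  have hK : K (H q f) s = ∑ ν ∈ s, (scaleHom (fun M => q ν M * wt ν M) (f s) +
      ∑ μ ∈ sᶜ, (sg ν s * sg μ (s.erase ν)) •
        scaleHom (wt ν) (scaleHom (q μ) (f (insert μ (s.erase ν))))) := by
    rw [K_apply]
    refine Finset.sum_congr rfl fun ν hν => ?_
    have hc : (s.erase ν)ᶜ = insert ν sᶜ := by rw [Finset.compl_erase]
    simp only [H]
    rw [map_sum, Finset.smul_sum, hc, Finset.sum_insert (by simp [hν])]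
    congr 1
    · rw [Finset.insert_erase hν, map_zsmul, smul_smul, show sg ν (s.erase ν) = sg ν s from by
          simp only [sg, pos_erase (ν := ν) hν, lt_irrefl, if_false, add_zero],
        sg_mul_self, one_smul, scaleHom_comp]
      congr 1; congr 1; funext M; exact mul_comm _ _
    · exact Finset.sum_congr rfl fun μ _ => by rw [map_zsmul, smul_smul]
  have hH : H q (K f) s = ∑ μ ∈ sᶜ, (scaleHom (fun M => q μ M * wt μ M) (f s) +
      ∑ ν ∈ s, (sg μ s * sg ν (insert μ s)) •
        scaleHom (q μ) (scaleHom (wt ν) (f ((insert μ s).erase ν)))) := by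
    simp only [H, K_apply]
    refine Finset.sum_congr rfl fun μ hμ => ?_
    rw [Finset.mem_compl] at hμ
    rw [map_sum, Finset.smul_sum, Finset.sum_insert hμ]
    congr 1
    · rw [Finset.erase_insert hμ, map_zsmul, smul_smul, show sg μ (insert μ s) = sg μ s from by
          simp only [sg, pos_insert hμ, lt_irrefl, if_false, add_zero],
        sg_mul_self, one_smul, scaleHom_comp]
    · exact Finset.sum_congr rfl fun ν _ => by rw [map_zsmul, smul_smul]
  have hcross : ∀ ν ∈ s, ∀ μ ∈ sᶜ, (sg μ s * sg ν (insert μ s)) •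
      scaleHom (q μ) (scaleHom (wt ν) (f ((insert μ s).erase ν))) =
      -((sg ν s * sg μ (s.erase ν)) •
        scaleHom (wt ν) (scaleHom (q μ) (f (insert μ (s.erase ν))))) := fun ν hν μ hμ => by
    rw [Finset.mem_compl] at hμ
    have hne : μ ≠ ν := fun h => hμ (h ▸ hν)
    rw [sg_cross hμ hν, neg_smul, scaleHom_comm, Finset.erase_insert_of_ne hne]
  rw [hK, hH, Finset.sum_add_distrib, Finset.sum_add_distrib,
    Finset.sum_comm (s := sᶜ) (t := s),
    Finset.sum_congr rfl fun ν hν => Finset.sum_congr rfl (hcross ν hν)]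
  simp only [Finset.sum_neg_distrib]
  have e : scaleHom (fun M => ∑ ν, q ν M * wt ν M) (f s) =
      ∑ ν, scaleHom (fun M => q ν M * wt ν M) (f s) := by
    ext M
    simp only [scaleHom, AddMonoidHom.mk'_apply, coeff_sum, coeff_scale, Finset.sum_mul]
  rw [e, ← Finset.sum_add_sum_compl s]
  abel

/-- `1` on the exponents divisible by `p`. -/
def z0 (p : ℕ) (M : Fin n →₀ ℕ) : R :=
  open Classical in if ∀ ν, p ∣ M ν then 1 else 0

/-- Coefficientwise zero-weight part. -/
def Z (p : ℕ) (f : Fun n R) : Fun n R := fun s => scaleHom (z0 p) (f s)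

theorem z0_mul_wt (p : ℕ) [CharP R p] (ν : Fin n) (M : Fin n →₀ ℕ) :
    (z0 p M : R) * wt ν M = 0 := by
  rw [z0]
  split_ifs with h
  · rw [one_mul, wt, (CharP.cast_eq_zero_iff R p _).2 (h ν)]
  · rw [zero_mul]

theorem K_Z (p : ℕ) [CharP R p] (f : Fun n R) : K (Z p f) = 0 := by
  funext s
  rw [K_apply]
  refine Finset.sum_eq_zero fun ν _ => ?_
  simp only [Z, scaleHom_comp]
  rw [show (fun M : Fin n →₀ ℕ => (wt ν M : R) * z0 p M) = fun _ => 0 from
    funext fun M => (mul_comm _ _).trans (z0_mul_wt p ν M)]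
  have : scaleHom (fun _ : Fin n →₀ ℕ => (0 : R)) (f (s.erase ν)) = 0 := by
    ext M; simp [scaleHom, coeff_scale]
  rw [this, smul_zero]

theorem Z_K (p : ℕ) [CharP R p] (f : Fun n R) : Z p (K f) = 0 := by
  funext s
  simp only [Z, K_apply, map_sum, map_zsmul]
  refine Finset.sum_eq_zero fun ν _ => ?_
  rw [scaleHom_comp, show (fun M : Fin n →₀ ℕ => (z0 p M : R) * wt ν M) = fun _ => 0 from
    funext fun M => z0_mul_wt p ν M]
  have : scaleHom (fun _ : Fin n →₀ ℕ => (0 : R)) (f (s.erase ν)) = 0 := by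
    ext M; simp [scaleHom, coeff_scale]
  rw [this, smul_zero]

/-- A closed function is a boundary plus its zero-weight part. -/
theorem exists_q (p : ℕ) [Fact p.Prime] [CharP R p] :
    ∃ q : Fin n → (Fin n →₀ ℕ) → R, ∀ M, ∑ ν, q ν M * wt ν M = 1 - z0 p M := by
  classical
  have key : ∀ M : Fin n →₀ ℕ, ∃ q : Fin n → R, ∑ ν, q ν * wt ν M = 1 - z0 p M := fun M => by
    by_cases h : ∀ ν, p ∣ M ν
    · exact ⟨fun _ => 0, by simp [z0, h]⟩
    · obtain ⟨ν, hν⟩ := not_forall.1 h
      obtain ⟨a, b, hab⟩ := ((Fact.out : p.Prime).coprime_iff_not_dvd.2 hν).isCoprime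
      have h2 := congrArg (fun z : ℤ => (z : R)) hab
      simp only [Int.cast_add, Int.cast_mul, Int.cast_natCast, CharP.cast_eq_zero R p, mul_zero,
        zero_add, Int.cast_one] at h2
      refine ⟨fun μ => if μ = ν then (b : R) else 0, ?_⟩
      rw [z0, if_neg h, sub_zero]
      simp [ite_mul, wt, h2]
  choose q hq using key
  exact ⟨fun ν M => q M ν, hq⟩

end Groth.Agent.LogPoly
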