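import Groth.Agent.LogPoly.Coord

/-!
The logarithmic de Rham complex of affine space in the coordinates of `Coord`.
-/

set_option autoImplicit false

universe u

open MvPolynomial Finset Module

noncomputable section

namespace Groth.Agent.LogPoly

variable {n r : ℕ} {R : Type u} [CommRing R]
  {L : Type u} [AddCommGroup L] [Module (MvPolynomial (Fin n) R) L]
  [Module R L] [IsScalarTower R (MvPolynomial (Fin n) R) L]
  (ι : (Ω[MvPolynomial (Fin n) R⁄R]) →ₗ[MvPolynomial (Fin n) R] L) (dl : Fin r → L)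

/-- The candidate basis of the logarithmic forms. -/
def v (ν : Fin n) : L :=
  if h : (ν : ℕ) < r then dl ⟨ν, h⟩ else ι (KaehlerDifferential.D R (MvPolynomial (Fin n) R) (X ν))

variable {ι dl} {hr : r ≤ n}
  (hL : LogDiff.IsLog (KaehlerDifferential.D R (MvPolynomial (Fin n) R))
      (fun i : Fin r => (X (Fin.castLE hr i) : MvPolynomial (Fin n) R)) ι dl)

include hL

theorem ι_D_X (ν : Fin n) :
    ι (KaehlerDifferential.D R (MvPolynomial (Fin n) R) (X ν)) =
      (tau r ν : MvPolynomial (Fin n) R) • v ι dl ν := by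
  rw [tau, v]
  split_ifs with h
  · exact (hL.1 ⟨ν, h⟩).symm
  · rw [one_smul]

theorem ι_D (f : MvPolynomial (Fin n) R) :
    ι (KaehlerDifferential.D R (MvPolynomial (Fin n) R) f) =
      ∑ ν, (tau r ν * pderiv ν f) • v ι dl ν := by
  conv_lhs => rw [← (KaehlerDifferential.mvPolynomialBasis R (Fin n)).sum_repr
    (KaehlerDifferential.D R (MvPolynomial (Fin n) R) f)]
  rw [map_sum]
  refine Finset.sum_congr rfl fun ν _ => ?_
  rw [map_smul, KaehlerDifferential.mvPolynomialBasis_apply,
    KaehlerDifferential.mvPolynomialBasis_repr_apply, ι_D_X hL, smul_smul, mul_comm]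

theorem span_v : ⊤ ≤ Submodule.span (MvPolynomial (Fin n) R) (Set.range (v ι dl)) := by
  rw [← hL.2.1, Submodule.span_le]
  rintro x (⟨ω, rfl⟩ | ⟨i, rfl⟩)
  · rw [← (KaehlerDifferential.mvPolynomialBasis R (Fin n)).sum_repr ω, map_sum]
    refine Submodule.sum_mem _ fun ν _ => ?_
    rw [map_smul, KaehlerDifferential.mvPolynomialBasis_apply, ι_D_X hL]
    exact Submodule.smul_mem _ _ (Submodule.smul_mem _ _ (Submodule.subset_span ⟨ν, rfl⟩))
  · refine Submodule.subset_span ⟨Fin.castLE hr i, ?_⟩
    rw [v, dif_pos (show ((Fin.castLE hr i : Fin n) : ℕ) < r from i.isLt)]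
    rfl

theorem linearIndependent_v : LinearIndependent (MvPolynomial (Fin n) R) (v ι dl) := by
  classical
  rw [Fintype.linearIndependent_iff]
  intro g hg
  let T : MvPolynomial (Fin n) R := ∏ i : Fin r, X (Fin.castLE hr i)
  let c : Fin n → MvPolynomial (Fin n) R := fun ν =>
    if h : (ν : ℕ) < r then ∏ i ∈ (Finset.univ : Finset (Fin r)).erase ⟨ν, h⟩, X (Fin.castLE hr i)
    else T
  have hreg : ∀ s : Finset (Fin r), IsRegular (∏ i ∈ s, (X (Fin.castLE hr i) : MvPolynomial (Fin n) R)) :=
    fun s => Finset.prod_induction _ IsRegular (fun _ _ ha hb => ha.mul hb) isRegular_one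
      fun i _ => isRegular_X
  have hc : ∀ ν, IsRegular (c ν) := fun ν => by
    simp only [c]
    split_ifs
    · exact hreg _
    · exact hreg _
  have hT : ∀ ν, c ν * tau r ν = T := fun ν => by
    simp only [c, tau]
    split_ifs with h
    · rw [mul_comm]
      exact Finset.mul_prod_erase _ (fun i : Fin r => (X (Fin.castLE hr i) : MvPolynomial (Fin n) R))
        (Finset.mem_univ (⟨ν, h⟩ : Fin r))
    · rw [mul_one]
  have h1 : ι (∑ ν, (g ν * c ν) • KaehlerDifferential.D R (MvPolynomial (Fin n) R) (X ν)) = 0 := by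
    simp only [map_sum, map_smul, ι_D_X hL, smul_smul, mul_assoc, hT]
    simp only [mul_comm _ T, ← smul_smul]
    rw [← Finset.smul_sum, hg, smul_zero]
  obtain ⟨k, hk⟩ := (hL.2.2.2 _).1 h1
  intro ν
  rw [Finset.smul_sum] at hk
  simp only [smul_smul, ← KaehlerDifferential.mvPolynomialBasis_apply] at hk
  have h2 := Fintype.linearIndependent_iff.1
    (KaehlerDifferential.mvPolynomialBasis R (Fin n)).linearIndependent _ hk ν
  exact (hc ν).right.eq_iff.1 (((hreg Finset.univ).pow k).left.eq_iff.1
    (by simpa [mul_zero, mul_assoc] using h2) |>.trans (zero_mul _).symm)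

/-- The basis of the logarithmic forms. -/
def basisV : Basis (Fin n) (MvPolynomial (Fin n) R) L :=
  Basis.mk (linearIndependent_v hL) (span_v hL)

theorem basisV_coe : ⇑(basisV hL) = v ι dl := Basis.coe_mk _ _

omit hL

theorem K_single [DecidableEq (Finset (Fin n))] (s : Finset (Fin n)) (g : MvPolynomial (Fin n) R) :
    K (Pi.single s g : Fun n R) =
      ∑ ν ∈ sᶜ, (Pi.single (insert ν s) (sg ν s • scaleHom (wt ν) g) : Fun n R) := by
  funext u
  rw [K_apply, Finset.sum_apply]
  simp only [Pi.single_apply, apply_ite (scaleHom _), map_zero, smul_ite, smul_zero]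
  rw [← Finset.sum_filter, ← Finset.sum_filter]
  have e : u.filter (fun ν => u.erase ν = s) = sᶜ.filter (fun ν => u = insert ν s) := by
    ext ν
    simp only [Finset.mem_filter, Finset.mem_compl]
    constructor
    · rintro ⟨h, rfl⟩
      exact ⟨Finset.notMem_erase _ _, (Finset.insert_erase h).symm⟩
    · rintro ⟨h, rfl⟩
      exact ⟨Finset.mem_insert_self _ _, Finset.erase_insert h⟩
  rw [e]
  refine Finset.sum_congr rfl fun ν hν => ?_
  obtain ⟨h, rfl⟩ := Finset.mem_filter.1 hν
  rw [show sg ν (insert ν s) = sg ν s by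
    simp only [sg, pos_insert (Finset.mem_compl.1 h), lt_irrefl, if_false, add_zero]]

include hL

theorem C_d (d : ∀ q : ℕ, ↥(⋀[MvPolynomial (Fin n) R]^q L) →ₗ[R] ↥(⋀[MvPolynomial (Fin n) R]^(q + 1) L))
    (hlog : LogDiff.IsLogRule (KaehlerDifferential.D R (MvPolynomial (Fin n) R)) ι dl d)
    (a : ℕ) (ω : ↥(⋀[MvPolynomial (Fin n) R]^a L)) :
    C (basisV hL) r (a + 1) (d a ω) = K (C (basisV hL) r a ω) := by
  classical
  have key : ∀ (s : Finset (Fin n)) (hs : s.card = a) (f : MvPolynomial (Fin n) R),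
      C (basisV hL) r (a + 1) (d a (f • exteriorPower.ιMulti (MvPolynomial (Fin n) R) a
        (basisV hL ∘ s.orderEmbOfFin hs))) =
      K (C (basisV hL) r a (f • exteriorPower.ιMulti (MvPolynomial (Fin n) R) a
        (basisV hL ∘ s.orderEmbOfFin hs))) := by
    intro s hs f
    have hrhs : C (basisV hL) r a (f • exteriorPower.ιMulti (MvPolynomial (Fin n) R) a
        (basisV hL ∘ s.orderEmbOfFin hs)) = (Pi.single s (f * pi' r s) : Fun n R) := by
      rw [map_smul, C_basis, ← Pi.single_smul, smul_eq_mul]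
    rw [hrhs, K_single, hlog a f (basisV hL ∘ s.orderEmbOfFin hs) (fun k => by
      simp only [Function.comp, basisV_coe, v]
      split_ifs with h
      · exact Or.inr ⟨_, rfl⟩
      · exact Or.inl ⟨_, rfl⟩), ι_D hL]
    rw [show (Fin.cons (∑ ν, (tau r ν * pderiv ν f) • v ι dl ν) (basisV hL ∘ s.orderEmbOfFin hs) :
        Fin (a + 1) → L) = Matrix.vecCons _ _ from rfl, ← AlternatingMap.curryLeft_apply_apply]
    let Φ : L →ₗ[MvPolynomial (Fin n) R] ↥(⋀[MvPolynomial (Fin n) R]^(a + 1) L) :=
      { toFun := fun x => (exteriorPower.ιMulti (MvPolynomial (Fin n) R) (a + 1)).curryLeft x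
          (basisV hL ∘ s.orderEmbOfFin hs)
        map_add' := fun x y => by rw [map_add, AlternatingMap.add_apply]
        map_smul' := fun c x => by rw [map_smul, AlternatingMap.smul_apply, RingHom.id_apply] }
    change C (basisV hL) r (a + 1) (Φ (∑ ν, (tau r ν * pderiv ν f) • v ι dl ν)) = _
    rw [map_sum Φ, map_sum]
    simp only [Φ, LinearMap.coe_mk, AddHom.coe_mk]
    rw [← Finset.sum_subset (Finset.subset_univ sᶜ)]
    · refine Finset.sum_congr rfl fun ν hν => ?_
      rw [Finset.mem_compl] at hν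
      rw [map_smul, AlternatingMap.smul_apply, AlternatingMap.curryLeft_apply_apply,
        show (Matrix.vecCons (v ι dl ν) (basisV hL ∘ s.orderEmbOfFin hs) : Fin (a + 1) → L) =
          Fin.cons (basisV hL ν) (basisV hL ∘ s.orderEmbOfFin hs) by rw [basisV_coe]; rfl,
        ιMulti_cons (basisV hL) hs ν, dif_neg hν, map_smul, map_zsmul, C_basis,
        smul_comm, ← Pi.single_smul, smul_eq_mul, ← Pi.single_smul]
      congr 2
      rw [mul_right_comm, pi'_insert hν, show scaleHom (wt ν) (f * pi' r s) =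
        X ν * pderiv ν (f * pi' r s) from (X_mul_pderiv ν _).symm, pderiv_mul]
      have hz : pderiv ν (pi' r s : MvPolynomial (Fin n) R) = 0 := by
        rw [pi', pderiv_monomial, ind_apply, if_neg (fun h => hν h.1), Nat.cast_zero, mul_zero,
          monomial_zero]
      rw [hz, mul_zero, add_zero]
      ring
    · intro ν _ hν
      rw [Finset.mem_compl, not_not] at hν
      rw [map_smul, AlternatingMap.smul_apply, AlternatingMap.curryLeft_apply_apply,
        show (Matrix.vecCons (v ι dl ν) (basisV hL ∘ s.orderEmbOfFin hs) : Fin (a + 1) → L) =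
          Fin.cons (basisV hL ν) (basisV hL ∘ s.orderEmbOfFin hs) by rw [basisV_coe]; rfl,
        ιMulti_cons (basisV hL) hs ν, dif_pos hν, smul_zero, map_zero]
  obtain ⟨G, rfl⟩ := ((basisV hL).exteriorPower a).repr.symm.surjective ω
  induction G using Finsupp.induction_linear with
  | zero => simp only [map_zero]
  | add x y hx hy => simp only [map_add, hx, hy]
  | single s f =>
      rw [Basis.repr_symm_single, exteriorPower.basis_apply]
      exact key s.1 s.2 f

omit hL

/-- The multiplier turning `v` into `w`. -/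
def cw (p r : ℕ) (ν : Fin n) : MvPolynomial (Fin n) R := if (ν : ℕ) < r then 1 else X ν ^ (p - 1)

theorem prod_cw_mul (p : ℕ) (hp : p ≠ 0) (s : Finset (Fin n)) :
    (∏ ν ∈ s, cw p r ν) * (pi' r s : MvPolynomial (Fin n) R) = expand p (pi' r s) := by
  classical
  have e : (pi' r s : MvPolynomial (Fin n) R) = ∏ ν ∈ s, if (ν : ℕ) < r then 1 else X ν := by
    have : ind r s = ∑ ν ∈ s, if (ν : ℕ) < r then 0 else Finsupp.single ν 1 := by
      ext μ
      rw [Finsupp.finsetSum_apply, ind_apply]
      simp only [apply_ite (fun x : Fin n →₀ ℕ => x μ), Finsupp.coe_zero, Pi.zero_apply,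
        Finsupp.single_apply]
      rw [Finset.sum_congr rfl fun (ν : Fin n) (_ : ν ∈ s) => show
        (if (ν : ℕ) < r then (0 : ℕ) else if ν = μ then 1 else 0) =
          if ν = μ then (if r ≤ (μ : ℕ) then 1 else 0) else 0 by
          by_cases h : ν = μ
          · subst h
            by_cases h' : (ν : ℕ) < r
            · rw [if_pos h', if_pos rfl, if_neg (not_le.2 h')]
            · rw [if_neg h', if_pos rfl, if_pos rfl, if_pos (not_lt.1 h')]
          · rw [if_neg h, if_neg h]; exact ite_self _, Finset.sum_ite_eq']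
      by_cases h : μ ∈ s <;> simp [h]
    rw [pi', this, monomial_sum_one]
    refine Finset.prod_congr rfl fun ν _ => ?_
    split_ifs
    · rfl
    · rfl
  rw [e, ← Finset.prod_mul_distrib, map_prod]
  refine Finset.prod_congr rfl fun ν _ => ?_
  rw [cw]
  split_ifs
  · rw [one_mul, map_one]
  · rw [expand_X, pow_sub_one_mul hp]

include hL

theorem C_e (p : ℕ) (hp : p ≠ 0) (w : Fin n → L) (hw : ∀ ν, w ν = (cw p r ν : MvPolynomial (Fin n) R) • v ι dl ν)
    {a : ℕ} {s : Finset (Fin n)} (hs : s.card = a) :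
    C (basisV hL) r a (exteriorPower.ιMulti (MvPolynomial (Fin n) R) a (fun j => w (s.orderEmbOfFin hs j))) =
      (Pi.single s (expand p (pi' r s : MvPolynomial (Fin n) R)) : Fun n R) := by
  classical
  simp only [hw]
  rw [← AlternatingMap.coe_multilinearMap, MultilinearMap.map_smul_univ,
    AlternatingMap.coe_multilinearMap, map_smul]
  rw [show (fun j => v ι dl (s.orderEmbOfFin hs j)) = basisV hL ∘ s.orderEmbOfFin hs by
    rw [basisV_coe]; rfl, C_basis, ← Pi.single_smul, smul_eq_mul]
  rw [show (∏ j, (cw p r (s.orderEmbOfFin hs j) : MvPolynomial (Fin n) R)) = ∏ ν ∈ s, cw p r ν by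
    conv_rhs => rw [← Finset.map_orderEmbOfFin_univ s hs, Finset.prod_map]
    rfl, prod_cw_mul p hp]

omit hL

/-- The zero-weight part of an admissible function is an expansion. -/
theorem exists_expand_eq (p a : ℕ) [Fact p.Prime] {F : Fun n R} (hF : Adm r a F) :
    ∃ g : Fun n R, ∀ u, u.card = a → expand p (g u * pi' r u) = Z p F u := by
  classical
  let f : Finset (Fin n) → (Fin n →₀ ℕ) → (Fin n →₀ ℕ) := fun u M =>
    Finsupp.equivFunOnFinite.symm fun ν => M ν / p - ind r u ν
  refine ⟨fun u => ∑ M ∈ (Z p F u).support, monomial (f u M) (coeff M (Z p F u)), fun u hu => ?_⟩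
  rw [Finset.sum_mul, map_sum]
  conv_rhs => rw [(Z p F u).as_sum]
  refine Finset.sum_congr rfl fun M hM => ?_
  rw [pi', monomial_mul, mul_one, expand_monomial]
  have h0 := MvPolynomial.mem_support_iff.1 hM
  have hle := (adm_Z p a hF u M h0).2
  have hdvd : ∀ ν, p ∣ M ν := by
    by_contra hcon
    apply h0
    simp only [Z, scaleHom, AddMonoidHom.mk'_apply, coeff_scale, z0, if_neg hcon, zero_mul]
  congr 2
  ext ν
  simp only [Finsupp.smul_apply, Finsupp.add_apply, smul_eq_mul, f,
    Finsupp.coe_equivFunOnFinite_symm]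
  obtain ⟨k, hk⟩ := hdvd ν
  have h1 := hle ν
  have h2 : ind r u ν ≤ 1 := by rw [ind_apply]; split_ifs <;> omega
  have hp : 0 < p := (Fact.out : p.Prime).pos
  rw [hk, Nat.mul_div_cancel_left _ hp] at *
  have : ind r u ν ≤ k := by
    rcases k.eq_zero_or_pos with rfl | hk'
    · simpa using h1
    · omega
  rw [Nat.sub_add_cancel this]

theorem scaleHom_z0_expand (p : ℕ) (G : MvPolynomial (Fin n) R) :
    scaleHom (z0 p) (expand p G) = expand p G := by
  ext M
  simp only [scaleHom, AddMonoidHom.mk'_apply, coeff_scale, z0]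
  split_ifs with h
  · rw [one_mul]
  · obtain ⟨ν, hν⟩ := not_forall.1 h
    rw [coeff_expand_of_not_dvd _ hν, mul_zero]

end Groth.Agent.LogPoly
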